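import Cfsg.Agent.SmallCodes.TernaryGolay

/-!
# The monomial group of the ternary Golay code
-/

namespace Cfsg.Agent.SmallCodes

open Finset
open scoped Pointwise

/-- Numbering of the twelve positions; the first six form a hexad. -/
def tPt : Fin 12 → Cfsg.ArrayPt :=
  ![(0, 0), (0, 1), (0, 2), (1, 0), (1, 1), (1, 2), (2, 0), (2, 1), (2, 2), (3, 0), (3, 1), (3, 2)]

theorem tPt_bijective : Function.Bijective tPt := by decide +kernel

/-- A monomial symmetry. -/
def TPres (σ : Equiv.Perm Cfsg.ArrayPt) (c : Cfsg.ArrayPt → (ZMod 3)ˣ) : Prop :=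
  ∀ x ∈ Cfsg.ternaryGolayCode, Cfsg.monomialMap σ c x ∈ Cfsg.ternaryGolayCode

/-- The index of a position. -/
def tIdx : Cfsg.ArrayPt → Fin 12 := fun p => ⟨3 * p.1.val + p.2.val, by
  have := p.1.isLt
  have : p.2.val < 3 := p.2.isLt
  omega⟩

theorem tPt_tIdx : ∀ p, tPt (tIdx p) = p := by decide +kernel

theorem tIdx_tPt : ∀ i, tIdx (tPt i) = i := by decide +kernel

/-- Data of a monomial map: images, inverse images and signs. -/
abbrev TDat := (Fin 12 → Fin 12) × (Fin 12 → Fin 12) × (Fin 12 → Bool)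

/-- The unit vectors. -/
def tE : Fin 6 → Fin 6 → ZMod 3 := fun k j => if j = k then 1 else 0

/-- The word map of a datum. -/
def tApply (d : TDat) (x : TW) : TW := fun p =>
  (if d.2.2 (tIdx p) then 2 else 1) * x (tPt (d.2.1 (tIdx p)))

/-- Validity of a datum fixing the first `k` positions and moving position `k` to `q`. -/
abbrev TOk (d : TDat) (k : Fin 5) (q : Fin 12) : Prop :=
  (∀ i, d.2.1 (d.1 i) = i) ∧ (∀ i, d.1 (d.2.1 i) = i) ∧ (∀ i : Fin 12, i.val < k.val → d.1 i = i) ∧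
    d.1 ⟨k.val, by omega⟩ = q ∧ ∀ j, TChk (tApply d (tEnc (tE j)))

/-- The transversals. -/
def tTab : Fin 5 → Fin 12 → TDat :=
  ![![(![0, 1, 2, 3, 4, 5, 6, 7, 8, 9, 10, 11], ![0, 1, 2, 3, 4, 5, 6, 7, 8, 9, 10, 11], ![false, false, false, false, false, false, false, false, false, false, false, false]),
    (![1, 0, 2, 3, 4, 5, 11, 9, 10, 7, 8, 6], ![1, 0, 2, 3, 4, 5, 11, 9, 10, 7, 8, 6], ![false, false, false, false, false, false, false, false, false, false, false, false]),
    (![2, 0, 1, 3, 4, 5, 8, 6, 7, 10, 11, 9], ![1, 2, 0, 3, 4, 5, 7, 8, 6, 11, 9, 10], ![false, false, false, false, false, false, false, false, false, false, false, false]),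
    (![3, 0, 1, 2, 4, 5, 10, 7, 6, 8, 9, 11], ![1, 2, 3, 0, 4, 5, 8, 7, 9, 10, 6, 11], ![false, false, true, true, false, false, true, true, false, true, false, true]),
    (![4, 0, 1, 2, 3, 5, 6, 9, 10, 11, 7, 8], ![1, 2, 3, 4, 0, 5, 6, 10, 11, 7, 8, 9], ![false, false, true, false, true, false, false, true, true, true, true, false]),
    (![5, 0, 1, 2, 3, 4, 9, 6, 8, 7, 11, 10], ![1, 2, 3, 4, 5, 0, 7, 9, 8, 6, 11, 10], ![false, false, true, false, false, true, true, false, true, false, true, true]),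
    (![6, 0, 1, 2, 3, 9, 5, 4, 7, 10, 8, 11], ![1, 2, 3, 4, 7, 6, 0, 8, 10, 5, 9, 11], ![false, true, false, false, true, false, true, true, true, false, false, true]),
    (![7, 0, 1, 2, 3, 11, 10, 8, 9, 4, 5, 6], ![1, 2, 3, 4, 9, 10, 11, 0, 7, 8, 6, 5], ![false, true, true, true, true, false, false, false, false, false, true, true]),
    (![8, 0, 1, 2, 3, 10, 7, 11, 4, 6, 9, 5], ![1, 2, 3, 4, 8, 11, 9, 6, 0, 10, 5, 7], ![false, false, false, true, false, false, true, true, false, false, true, false]),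
    (![9, 0, 1, 2, 3, 6, 4, 5, 11, 8, 10, 7], ![1, 2, 3, 4, 6, 7, 5, 11, 9, 0, 10, 8], ![false, true, false, false, false, true, false, true, false, true, true, true]),
    (![10, 0, 1, 2, 3, 8, 11, 7, 5, 9, 6, 4], ![1, 2, 3, 4, 11, 8, 10, 7, 5, 9, 0, 6], ![false, false, false, true, false, false, false, false, true, true, false, true]),
    (![11, 0, 1, 2, 3, 7, 8, 10, 6, 5, 4, 9], ![1, 2, 3, 4, 10, 9, 8, 5, 6, 11, 7, 0], ![false, true, true, true, false, true, false, true, true, false, false, false])],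
  ![(id, id, fun _ => false),
    (![0, 1, 2, 3, 4, 5, 6, 7, 8, 9, 10, 11], ![0, 1, 2, 3, 4, 5, 6, 7, 8, 9, 10, 11], ![false, false, false, false, false, false, false, false, false, false, false, false]),
    (![0, 2, 1, 3, 4, 5, 9, 10, 11, 6, 7, 8], ![0, 2, 1, 3, 4, 5, 9, 10, 11, 6, 7, 8], ![false, false, false, false, false, false, false, false, false, false, false, false]),
    (![0, 3, 1, 2, 4, 5, 11, 8, 9, 7, 6, 10], ![0, 2, 3, 1, 4, 5, 10, 9, 7, 8, 11, 6], ![false, false, true, true, false, false, true, true, false, true, false, true]),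
    (![0, 4, 1, 2, 3, 5, 8, 11, 7, 9, 10, 6], ![0, 2, 3, 4, 1, 5, 11, 8, 6, 9, 10, 7], ![false, false, true, false, true, false, false, true, true, true, true, false]),
    (![0, 5, 1, 2, 3, 4, 10, 7, 11, 6, 8, 9], ![0, 2, 3, 4, 5, 1, 9, 7, 10, 11, 6, 8], ![false, false, true, false, false, true, true, false, true, false, true, true]),
    (![0, 6, 1, 2, 3, 9, 11, 10, 8, 4, 7, 5], ![0, 2, 3, 4, 9, 11, 1, 10, 8, 5, 7, 6], ![false, true, false, false, true, false, true, true, true, false, false, true]),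
    (![0, 7, 1, 2, 3, 11, 6, 4, 5, 8, 9, 10], ![0, 2, 3, 4, 7, 8, 6, 1, 9, 10, 11, 5], ![false, true, true, true, true, false, false, false, false, false, true, true]),
    (![0, 8, 1, 2, 3, 10, 5, 6, 9, 11, 4, 7], ![0, 2, 3, 4, 10, 6, 7, 11, 1, 8, 5, 9], ![false, false, false, true, false, false, true, true, false, false, true, false]),
    (![0, 9, 1, 2, 3, 6, 7, 8, 10, 5, 11, 4], ![0, 2, 3, 4, 11, 9, 5, 6, 7, 1, 8, 10], ![false, true, false, false, false, true, false, true, false, true, true, true]),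
    (![0, 10, 1, 2, 3, 8, 4, 9, 6, 7, 5, 11], ![0, 2, 3, 4, 6, 10, 8, 9, 5, 7, 1, 11], ![false, false, false, true, false, false, false, false, true, true, false, true]),
    (![0, 11, 1, 2, 3, 7, 9, 5, 4, 10, 6, 8], ![0, 2, 3, 4, 8, 7, 10, 5, 11, 6, 9, 1], ![false, true, true, true, false, true, false, true, true, false, false, false])],
  ![(id, id, fun _ => false),
    (id, id, fun _ => false),
    (![0, 1, 2, 3, 4, 5, 6, 7, 8, 9, 10, 11], ![0, 1, 2, 3, 4, 5, 6, 7, 8, 9, 10, 11], ![false, false, false, false, false, false, false, false, false, false, false, false]),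
    (![0, 1, 3, 2, 4, 5, 7, 6, 10, 11, 8, 9], ![0, 1, 3, 2, 4, 5, 7, 6, 10, 11, 8, 9], ![false, false, true, true, false, false, true, true, false, true, false, true]),
    (![0, 1, 4, 2, 3, 5, 9, 10, 6, 8, 11, 7], ![0, 1, 3, 4, 2, 5, 8, 11, 9, 6, 7, 10], ![false, false, true, false, true, false, false, true, true, true, true, false]),
    (![0, 1, 5, 2, 3, 4, 6, 8, 9, 10, 7, 11], ![0, 1, 3, 4, 5, 2, 6, 10, 7, 8, 9, 11], ![false, false, true, false, false, true, true, false, true, false, true, true]),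
    (![0, 1, 6, 2, 3, 9, 4, 7, 5, 11, 10, 8], ![0, 1, 3, 4, 6, 8, 2, 7, 11, 5, 10, 9], ![false, true, false, false, true, false, true, true, true, false, false, true]),
    (![0, 1, 7, 2, 3, 11, 8, 9, 10, 6, 4, 5], ![0, 1, 3, 4, 10, 11, 9, 2, 6, 7, 8, 5], ![false, true, true, true, true, false, false, false, false, false, true, true]),
    (![0, 1, 8, 2, 3, 10, 11, 4, 7, 5, 6, 9], ![0, 1, 3, 4, 7, 9, 10, 8, 2, 11, 5, 6], ![false, false, false, true, false, false, true, true, false, false, true, false]),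
    (![0, 1, 9, 2, 3, 6, 5, 11, 4, 7, 8, 10], ![0, 1, 3, 4, 8, 6, 5, 9, 10, 2, 11, 7], ![false, true, false, false, false, true, false, true, false, true, true, true]),
    (![0, 1, 10, 2, 3, 8, 7, 5, 11, 4, 9, 6], ![0, 1, 3, 4, 9, 7, 11, 6, 5, 10, 2, 8], ![false, false, false, true, false, false, false, false, true, true, false, true]),
    (![0, 1, 11, 2, 3, 7, 10, 6, 8, 9, 5, 4], ![0, 1, 3, 4, 11, 10, 7, 5, 8, 9, 6, 2], ![false, true, true, true, false, true, false, true, true, false, false, false])],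
  ![(id, id, fun _ => false),
    (id, id, fun _ => false),
    (id, id, fun _ => false),
    (![0, 1, 2, 3, 4, 5, 6, 7, 8, 9, 10, 11], ![0, 1, 2, 3, 4, 5, 6, 7, 8, 9, 10, 11], ![false, false, false, false, false, false, false, false, false, false, false, false]),
    (![0, 1, 2, 4, 3, 5, 10, 9, 11, 7, 6, 8], ![0, 1, 2, 4, 3, 5, 10, 9, 11, 7, 6, 8], ![false, false, false, false, false, false, false, false, false, false, false, false]),
    (![0, 1, 2, 5, 3, 4, 8, 6, 7, 11, 9, 10], ![0, 1, 2, 4, 5, 3, 7, 8, 6, 10, 11, 9], ![false, false, false, false, false, false, false, false, false, false, false, false]),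
    (![0, 1, 2, 6, 3, 9, 7, 4, 10, 8, 5, 11], ![0, 1, 2, 4, 7, 10, 3, 6, 9, 5, 8, 11], ![false, true, true, false, false, false, false, false, false, false, false, false]),
    (![0, 1, 2, 7, 3, 11, 9, 8, 4, 5, 10, 6], ![0, 1, 2, 4, 8, 9, 11, 3, 7, 6, 10, 5], ![false, true, false, true, true, true, true, true, true, true, true, true]),
    (![0, 1, 2, 8, 3, 10, 4, 11, 6, 9, 7, 5], ![0, 1, 2, 4, 6, 11, 8, 10, 3, 9, 5, 7], ![false, false, true, true, true, true, true, true, true, true, true, true]),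
    (![0, 1, 2, 9, 3, 6, 11, 5, 8, 10, 4, 7], ![0, 1, 2, 4, 10, 7, 5, 11, 8, 3, 9, 6], ![false, true, true, false, false, false, false, false, false, false, false, false]),
    (![0, 1, 2, 10, 3, 8, 5, 7, 9, 6, 11, 4], ![0, 1, 2, 4, 11, 6, 9, 7, 5, 8, 3, 10], ![false, false, true, true, true, true, true, true, true, true, true, true]),
    (![0, 1, 2, 11, 3, 7, 6, 10, 5, 4, 8, 9], ![0, 1, 2, 4, 9, 8, 6, 5, 10, 11, 7, 3], ![false, true, false, true, true, true, true, true, true, true, true, true])],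
  ![(id, id, fun _ => false),
    (id, id, fun _ => false),
    (id, id, fun _ => false),
    (id, id, fun _ => false),
    (![0, 1, 2, 3, 4, 5, 6, 7, 8, 9, 10, 11], ![0, 1, 2, 3, 4, 5, 6, 7, 8, 9, 10, 11], ![false, false, false, false, false, false, false, false, false, false, false, false]),
    (![0, 1, 2, 3, 5, 4, 9, 11, 10, 6, 8, 7], ![0, 1, 2, 3, 5, 4, 9, 11, 10, 6, 8, 7], ![false, false, false, false, false, false, false, false, false, false, false, false]),
    (![0, 1, 2, 3, 6, 9, 5, 8, 11, 4, 7, 10], ![0, 1, 2, 3, 9, 6, 4, 10, 7, 5, 11, 8], ![false, true, true, false, false, false, false, false, false, false, false, false]),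
    (![0, 1, 2, 3, 7, 11, 10, 5, 6, 8, 9, 4], ![0, 1, 2, 3, 11, 7, 8, 4, 9, 10, 6, 5], ![false, true, false, true, true, true, true, true, true, true, true, true]),
    (![0, 1, 2, 3, 8, 10, 7, 9, 5, 11, 4, 6], ![0, 1, 2, 3, 10, 8, 11, 6, 4, 7, 5, 9], ![false, false, true, true, true, true, true, true, true, true, true, true]),
    (![0, 1, 2, 3, 9, 6, 4, 10, 7, 5, 11, 8], ![0, 1, 2, 3, 6, 9, 5, 8, 11, 4, 7, 10], ![false, true, true, false, false, false, false, false, false, false, false, false]),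
    (![0, 1, 2, 3, 10, 8, 11, 6, 4, 7, 5, 9], ![0, 1, 2, 3, 8, 10, 7, 9, 5, 11, 4, 6], ![false, false, true, true, true, true, true, true, true, true, true, true]),
    (![0, 1, 2, 3, 11, 7, 8, 4, 9, 10, 6, 5], ![0, 1, 2, 3, 7, 11, 10, 5, 6, 8, 9, 4], ![false, true, false, true, true, true, true, true, true, true, true, true])]]

theorem tTab_ok : ∀ (k : Fin 5) (q : Fin 12), k.val ≤ q.val → TOk (tTab k q) k q := by decide +kernel

theorem tEnc_sum : ∀ a, tEnc a = fun p => ∑ k, a k * tEnc (tE k) p := by decide +kernel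

/-- The permutation parts. -/
def tPerms : Subgroup (Equiv.Perm Cfsg.ArrayPt) where
  carrier := {σ | ∃ c, TPres σ c}
  one_mem' := ⟨fun _ => 1, fun x hx => by
    have : Cfsg.monomialMap (1 : Equiv.Perm Cfsg.ArrayPt) (fun _ => (1 : (ZMod 3)ˣ)) x = x := by
      funext i
      simp only [Cfsg.monomialMap, Units.val_one, one_mul]
      rfl
    rw [this]
    exact hx⟩
  mul_mem' := by
    rintro σ τ ⟨c, hc⟩ ⟨d, hd⟩
    refine ⟨fun i => c i * d (σ.symm i), fun x hx => ?_⟩
    have h := hc _ (hd x hx)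
    have e : Cfsg.monomialMap σ c (Cfsg.monomialMap τ d x) =
        Cfsg.monomialMap (σ * τ) (fun i => c i * d (σ.symm i)) x := by
      funext i
      simp only [Cfsg.monomialMap, Units.val_mul, mul_assoc]
      rfl
    rwa [e] at h
  inv_mem' := by
    rintro σ ⟨c, hc⟩
    refine ⟨fun i => (c (σ i))⁻¹, fun y hy => ?_⟩
    let f : ↥Cfsg.ternaryGolayCode → ↥Cfsg.ternaryGolayCode := fun x => ⟨_, hc x.1 x.2⟩
    have hinj : Function.Injective f := fun x x' h => Subtype.ext (funext fun i => by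
      simpa [f, Cfsg.monomialMap] using congrFun (congrArg Subtype.val h) (σ i))
    obtain ⟨⟨x, hx⟩, hxy⟩ := (Finite.injective_iff_surjective (f := f)).1 hinj ⟨y, hy⟩
    have hxy' : Cfsg.monomialMap σ c x = y := congrArg Subtype.val hxy
    have : Cfsg.monomialMap σ⁻¹ (fun i => (c (σ i))⁻¹) y = x := by
      subst hxy'
      funext i
      show (((c (σ i))⁻¹ : (ZMod 3)ˣ) : ZMod 3) * ((c (σ i) : ZMod 3) * x (σ.symm (σ i))) = x i
      rw [Equiv.symm_apply_apply, ← mul_assoc, Units.inv_mul, one_mul]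
    rw [this]
    exact hx

theorem exists_transversal (k : Fin 5) (q : Fin 12) (hq : k.val ≤ q.val) :
    ∃ σ ∈ tPerms, (∀ i : Fin 12, i.val < k.val → σ (tPt i) = tPt i) ∧ σ (tPt ⟨k.val, by omega⟩) = tPt q := by
  obtain ⟨h1, h2, hfix, hk, hchk⟩ := tTab_ok k q hq
  generalize tTab k q = d at h1 h2 hfix hk hchk
  let σ : Equiv.Perm Cfsg.ArrayPt :=
    { toFun := fun p => tPt (d.1 (tIdx p))
      invFun := fun p => tPt (d.2.1 (tIdx p))
      left_inv := fun p => by
        show tPt (d.2.1 (tIdx (tPt (d.1 (tIdx p))))) = p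
        rw [tIdx_tPt, h1, tPt_tIdx]
      right_inv := fun p => by
        show tPt (d.1 (tIdx (tPt (d.2.1 (tIdx p))))) = p
        rw [tIdx_tPt, h2, tPt_tIdx] }
  refine ⟨σ, ⟨fun p => if d.2.2 (tIdx p) then -1 else 1, fun x hx => ?_⟩, fun i hi => ?_, ?_⟩
  · have hm : ∀ z : TW, Cfsg.monomialMap σ (fun p => if d.2.2 (tIdx p) then -1 else 1) z = tApply d z := by
      intro z
      funext p
      show ((if d.2.2 (tIdx p) then (-1 : (ZMod 3)ˣ) else 1 : (ZMod 3)ˣ) : ZMod 3) * z (tPt (d.2.1 (tIdx p))) = _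
      simp only [tApply]
      split_ifs <;> rfl
    obtain ⟨a, rfl⟩ := mem_ternary_iff_enc.1 hx
    rw [hm]
    have e : tApply d (tEnc a) = ∑ k, a k • tApply d (tEnc (tE k)) := by
      funext p
      rw [tEnc_sum a]
      simp only [tApply, Finset.sum_apply, Pi.smul_apply, smul_eq_mul, Finset.mul_sum]
      exact Finset.sum_congr rfl fun k _ => by ring
    rw [e]
    exact Submodule.sum_mem _ fun k _ => Submodule.smul_mem _ _ (mem_ternary_iff.2 (hchk k))
  · show tPt (d.1 (tIdx (tPt i))) = _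
    rw [tIdx_tPt, hfix i hi]
  · show tPt (d.1 (tIdx (tPt ⟨k.val, _⟩))) = _
    rw [tIdx_tPt, hk]

/-- The five base positions. -/
def tBase (i : Fin 5) : Cfsg.ArrayPt := tPt ⟨i.val, by omega⟩

theorem tPerms_transitive (t : Fin 5 → Cfsg.ArrayPt) (ht : Function.Injective t) :
    ∃ g ∈ tPerms, ∀ i, g (tBase i) = t i := by
  suffices ∀ k, k ≤ 5 → ∃ g ∈ tPerms, ∀ i : Fin 5, i.val < k → g (tBase i) = t i by
    obtain ⟨g, hg, h⟩ := this 5 le_rfl
    exact ⟨g, hg, fun i => h i i.isLt⟩
  intro k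
  induction k with
  | zero => exact fun _ => ⟨1, one_mem _, fun i hi => absurd hi (Nat.not_lt_zero _)⟩
  | succ k ih =>
    intro hk
    obtain ⟨g, hg, hgt⟩ := ih (by omega)
    have hq : k ≤ (tIdx (g⁻¹ (t ⟨k, by omega⟩))).val := by
      by_contra hlt
      push Not at hlt
      have h := hgt ⟨(tIdx (g⁻¹ (t ⟨k, by omega⟩))).val, by omega⟩ hlt
      simp only [tBase, Fin.eta, tPt_tIdx, Equiv.Perm.inv_def, Equiv.apply_symm_apply] at h
      have := congrArg Fin.val (ht h)
      simp only [Equiv.Perm.inv_def] at this hlt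
      omega
    obtain ⟨σ, hσ, hfix, hσk⟩ := exists_transversal ⟨k, by omega⟩ _ hq
    refine ⟨g * σ, mul_mem hg hσ, fun i hi => ?_⟩
    rw [Equiv.Perm.mul_apply]
    rcases Nat.lt_or_eq_of_le (Nat.lt_succ_iff.1 hi) with r | r
    · rw [tBase, hfix _ r]
      exact hgt i r
    · obtain ⟨iv, hiv⟩ := i
      simp only at r
      subst r
      rw [tBase]
      rw [hσk, tPt_tIdx, Equiv.Perm.inv_def, Equiv.apply_symm_apply]

theorem tPerms_le_aut {σ : Equiv.Perm Cfsg.ArrayPt} (hσ : σ ∈ tPerms) : σ • hexads = hexads := by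
  obtain ⟨c, hc⟩ := hσ
  refine Set.eq_of_subset_of_ncard_le ?_ (by rw [Set.ncard_smul_set]) (Set.toFinite _)
  rintro _ ⟨h, ⟨x, hx, rfl, h6⟩, rfl⟩
  refine ⟨_, hc x hx, ?_, ?_⟩
  · ext p
    rw [Finset.mem_smul_finset]
    simp only [Cfsg.ternarySupport, Cfsg.monomialMap, mem_filter, mem_univ, true_and, mul_ne_zero_iff,
      Units.ne_zero, ne_eq, not_false_eq_true]
    exact ⟨fun h => ⟨_, h, σ.apply_symm_apply p⟩, by rintro ⟨q, hq, rfl⟩; simpa using hq⟩
  · show (σ • Cfsg.ternarySupport x).card = 6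
    rw [Finset.card_smul_finset]
    exact h6

/-- Four synthemes of the complementary hexad. -/
def tMu : Fin 4 → Fin 6 → Fin 6 :=
  ![![3, 5, 4, 0, 2, 1], ![5, 4, 3, 2, 1, 0], ![2, 3, 0, 1, 5, 4], ![4, 2, 1, 5, 0, 3]]

/-- The corresponding four-subsets of the base hexad. -/
def tFour : Fin 4 → Fin 4 → Fin 12 :=
  ![![0, 1, 2, 3], ![0, 1, 2, 4], ![0, 1, 3, 4], ![0, 2, 3, 4]]

/-- A block through four base positions. -/
def tBlock (m : Fin 4) (j : Fin 6) : Finset Cfsg.ArrayPt :=
  insert (tPt (Fin.natAdd 6 j)) (insert (tPt (Fin.natAdd 6 (tMu m j))) (univ.image fun l => tPt (tFour m l)))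

theorem tBlock_mem (m : Fin 4) (j : Fin 6) : tBlock m j ∈ hexads := by
  rw [hexads_eq]
  exact (by decide +kernel : ∀ m j, tBlock m j ∈
    (univ.filter fun a => tWt a = 6).image fun a => Cfsg.ternarySupport (tEnc a)) m j

theorem tBase_hexad : (univ.image fun i : Fin 6 => tPt (Fin.castAdd 6 i)) ∈ hexads := by
  rw [hexads_eq]
  exact (by decide +kernel : (univ.image fun i : Fin 6 => tPt (Fin.castAdd 6 i)) ∈
    (univ.filter fun a => tWt a = 6).image fun a => Cfsg.ternarySupport (tEnc a))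

theorem tFix_table : ∀ p : Equiv.Perm (Fin 6), (∀ m j, p (tMu m j) = tMu m (p j)) → p = 1 := by decide +kernel

theorem eq_one_of_fix {σ : Equiv.Perm Cfsg.ArrayPt} (hσ : σ • hexads = hexads)
    (hfix : ∀ i, σ (tBase i) = tBase i) : σ = 1 := by
  have hmem : ∀ {b}, b ∈ hexads → σ • b ∈ hexads := fun hb => hσ ▸ Set.smul_mem_smul_set hb
  have hcard : ∀ {b}, b ∈ hexads → b.card = 6 := fun hb => hexads_steiner.1 _ hb
  -- the base hexad is fixed pointwise
  set b0 := univ.image fun i : Fin 6 => tPt (Fin.castAdd 6 i) with hb0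
  have hb0σ : σ • b0 = b0 := by
    refine hexads_inter (hmem tBase_hexad) tBase_hexad ?_
    have hsub : univ.image tBase ⊆ σ • b0 ∩ b0 := by
      intro p hp
      obtain ⟨i, -, rfl⟩ := mem_image.1 hp
      have hi : tBase i ∈ b0 := mem_image.2 ⟨⟨i.val, by omega⟩, mem_univ _, rfl⟩
      exact mem_inter.2 ⟨mem_smul_finset.2 ⟨_, hi, hfix i⟩, hi⟩
    refine le_trans ?_ (card_le_card hsub)
    decide +kernel
  have hlow : ∀ i : Fin 6, σ (tPt (Fin.castAdd 6 i)) = tPt (Fin.castAdd 6 i) := by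
    have hb5 : ∀ i : Fin 5, σ (tPt (Fin.castAdd 6 (Fin.castAdd 1 i))) = tPt (Fin.castAdd 6 (Fin.castAdd 1 i)) :=
      fun i => hfix i
    intro i
    by_cases hi : i.val < 5
    · exact hb5 ⟨i.val, hi⟩
    · have h5 : σ (tPt (Fin.castAdd 6 i)) ∈ b0 := hb0σ ▸ mem_smul_finset.2
        ⟨_, mem_image.2 ⟨i, mem_univ _, rfl⟩, rfl⟩
      obtain ⟨j, -, hj⟩ := mem_image.1 h5
      by_cases hj' : j.val < 5
      · have e : σ (tPt (Fin.castAdd 6 i)) = σ (tPt (Fin.castAdd 6 j)) :=
          hj.symm.trans (hb5 ⟨j.val, hj'⟩).symm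
        have := Fin.castAdd_injective 6 6 (tPt_bijective.1 (σ.injective e))
        omega
      · rw [← hj, show j = i from Fin.ext (by omega)]
  -- the complement
  have hup : ∀ j : Fin 6, 6 ≤ (tIdx (σ (tPt (Fin.natAdd 6 j)))).val := by
    intro j
    by_contra hlt
    push Not at hlt
    have e := hlow ⟨(tIdx (σ (tPt (Fin.natAdd 6 j)))).val, hlt⟩
    have he : tPt (Fin.castAdd 6 (⟨(tIdx (σ (tPt (Fin.natAdd 6 j)))).val, hlt⟩ : Fin 6)) = σ (tPt (Fin.natAdd 6 j)) :=
      tPt_tIdx _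
    have := congrArg Fin.val (tPt_bijective.1 (σ.injective (e.trans he)))
    simp only [Fin.val_castAdd, Fin.val_natAdd] at this hlt
    omega
  let f : Fin 6 → Fin 6 := fun j => ⟨(tIdx (σ (tPt (Fin.natAdd 6 j)))).val - 6, by
    have := (tIdx (σ (tPt (Fin.natAdd 6 j)))).isLt
    omega⟩
  have hf : ∀ j, σ (tPt (Fin.natAdd 6 j)) = tPt (Fin.natAdd 6 (f j)) := by
    intro j
    conv_lhs => rw [← tPt_tIdx (σ (tPt (Fin.natAdd 6 j)))]
    have := hup j
    congr 1
    ext
    simp only [Fin.val_natAdd, f]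
    omega
  have hfinj : Function.Injective f := fun i j e => Fin.natAdd_injective 6 6
    (tPt_bijective.1 (σ.injective (by rw [hf, hf, e])))
  have hcomm : ∀ m j, f (tMu m j) = tMu m (f j) := by
    intro m j
    have hfour : ∀ l, ∃ i : Fin 6, tFour m l = Fin.castAdd 6 i := fun l =>
      (by decide +kernel : ∀ m l, ∃ i : Fin 6, tFour m l = Fin.castAdd 6 i) m l
    have h5 : 5 ≤ (σ • tBlock m j ∩ tBlock m (f j)).card := by
      have hsub : insert (tPt (Fin.natAdd 6 (f j))) (univ.image fun l => tPt (tFour m l)) ⊆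
          σ • tBlock m j ∩ tBlock m (f j) := by
        intro p hp
        rcases mem_insert.1 hp with rfl | hp
        · exact mem_inter.2 ⟨mem_smul_finset.2 ⟨_, mem_insert_self _ _, hf j⟩, mem_insert_self _ _⟩
        · obtain ⟨l, -, rfl⟩ := mem_image.1 hp
          obtain ⟨i, hi⟩ := hfour l
          have hl : tPt (tFour m l) ∈ univ.image fun l => tPt (tFour m l) := mem_image_of_mem _ (mem_univ _)
          refine mem_inter.2 ⟨mem_smul_finset.2 ⟨_, mem_insert_of_mem (mem_insert_of_mem hl), ?_⟩,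
            mem_insert_of_mem (mem_insert_of_mem hl)⟩
          show σ (tPt (tFour m l)) = _
          rw [hi, hlow]
      refine le_trans ?_ (card_le_card hsub)
      exact (by decide +kernel : ∀ m j,
        5 ≤ (insert (tPt (Fin.natAdd 6 j)) (univ.image fun l => tPt (tFour m l))).card) m (f j)
    have heq := hexads_inter (hmem (tBlock_mem m j)) (tBlock_mem m (f j)) h5
    have hmem' : tPt (Fin.natAdd 6 (f (tMu m j))) ∈ tBlock m (f j) := heq ▸ mem_smul_finset.2
      ⟨_, mem_insert_of_mem (mem_insert_self _ _), hf _⟩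
    rcases mem_insert.1 hmem' with r | r
    · exact absurd (hfinj (Fin.natAdd_injective 6 6 (tPt_bijective.1 r)))
        ((by decide : ∀ m j, tMu m j ≠ j) m j)
    rcases mem_insert.1 r with r | r
    · exact Fin.natAdd_injective 6 6 (tPt_bijective.1 r)
    · obtain ⟨l, -, hl⟩ := mem_image.1 r
      obtain ⟨i, hi⟩ := hfour l
      have := congrArg Fin.val (tPt_bijective.1 hl)
      rw [hi, Fin.val_castAdd, Fin.val_natAdd] at this
      omega
  have hone := tFix_table (Equiv.ofBijective f (Finite.injective_iff_bijective.1 hfinj)) hcomm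
  have hf1 : ∀ j, f j = j := fun j => Equiv.Perm.congr_fun hone j
  ext p : 1
  obtain ⟨i, rfl⟩ := tPt_bijective.2 p
  refine Fin.addCases (m := 6) (n := 6) (motive := fun i => σ (tPt i) = tPt i) ?_ ?_ i
  · exact hlow
  · intro j
    rw [hf j, hf1 j]

theorem tPerms_eq : tPerms = Cfsg.setSystemAut hexads := by
  ext σ
  rw [MulAction.mem_stabilizer_iff]
  refine ⟨tPerms_le_aut, fun hσ => ?_⟩
  obtain ⟨g, hg, hgt⟩ := tPerms_transitive (fun i => σ (tBase i))
    (σ.injective.comp fun i j e => Fin.ext (Fin.mk.inj (tPt_bijective.1 e)))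
  have h := eq_one_of_fix (σ := g⁻¹ * σ) (by rw [mul_smul, hσ, inv_smul_eq_iff, tPerms_le_aut hg])
    fun i => by rw [Equiv.Perm.mul_apply, ← hgt i, Equiv.Perm.inv_def, Equiv.symm_apply_apply]
  rwa [inv_mul_eq_one.1 h] at hg

theorem card_tPerms : Nat.card tPerms = 95040 := by
  classical
  let Φ : tPerms → (Fin 5 ↪ Cfsg.ArrayPt) := fun g =>
    ⟨fun i => (g : Equiv.Perm Cfsg.ArrayPt) (tBase i),
      (g : Equiv.Perm Cfsg.ArrayPt).injective.comp fun i j e => Fin.ext (Fin.mk.inj (tPt_bijective.1 e))⟩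
  have hΦ : Function.Bijective Φ := by
    constructor
    · intro g h e
      refine Subtype.ext (inv_mul_eq_one.1 (eq_one_of_fix ?_ fun i => ?_))
      · exact tPerms_le_aut (mul_mem (inv_mem g.2) h.2)
      · have ei : (g : Equiv.Perm Cfsg.ArrayPt) (tBase i) = (h : Equiv.Perm Cfsg.ArrayPt) (tBase i) :=
          congrFun (congrArg DFunLike.coe e) i
        rw [Equiv.Perm.mul_apply, ← ei, Equiv.Perm.inv_def, Equiv.symm_apply_apply]
    · intro t
      obtain ⟨g, hg, hgt⟩ := tPerms_transitive t t.injective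
      exact ⟨⟨g, hg⟩, Function.Embedding.ext hgt⟩
  rw [Nat.card_eq_of_bijective Φ hΦ, Nat.card_eq_fintype_card, Fintype.card_embedding_eq]
  simp [Nat.descFactorial]

theorem card_tAut :
    Nat.card {f : Equiv.Perm Cfsg.ArrayPt × (Cfsg.ArrayPt → (ZMod 3)ˣ) // TPres f.1 f.2} = 190080 := by
  classical
  choose c0 hc0 using fun σ : tPerms => σ.2
  let Φ : tPerms × (ZMod 3)ˣ → {f : Equiv.Perm Cfsg.ArrayPt × (Cfsg.ArrayPt → (ZMod 3)ˣ) // TPres f.1 f.2} :=
    fun q => ⟨(q.1, fun i => q.2 * c0 q.1 i), fun x hx => by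
      have : Cfsg.monomialMap (q.1 : Equiv.Perm Cfsg.ArrayPt) (fun i => q.2 * c0 q.1 i) x =
          (q.2 : ZMod 3) • Cfsg.monomialMap (q.1 : Equiv.Perm Cfsg.ArrayPt) (c0 q.1) x := by
        funext i
        simp only [Cfsg.monomialMap, Units.val_mul, Pi.smul_apply, smul_eq_mul, mul_assoc]
      rw [this]
      exact Submodule.smul_mem _ _ (hc0 q.1 x hx)⟩
  have hΦ : Function.Bijective Φ := by
    constructor
    · rintro ⟨σ, u⟩ ⟨τ, v⟩ h
      obtain ⟨h1, h2'⟩ := Prod.ext_iff.1 (congrArg Subtype.val h)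
      obtain rfl : σ = τ := Subtype.ext h1
      exact Prod.ext rfl (mul_right_cancel (congrFun h2' (tBase 0)))
    · rintro ⟨⟨σ, c⟩, hc⟩
      set s : tPerms := ⟨σ, c, hc⟩
      obtain ⟨d, hd⟩ := tPerms.inv_mem s.2
      have key : ∀ e, TPres σ e → ∀ i j, e i * d (σ.symm i) = e j * d (σ.symm j) := by
        intro e he i j
        have hd1 := ternary_diag (c := fun i => e i * d (σ.symm i)) fun x hx => by
          have h := he _ (hd x hx)
          have ee : Cfsg.monomialMap σ e (Cfsg.monomialMap σ⁻¹ d x) =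
              Cfsg.monomialMap 1 (fun i => e i * d (σ.symm i)) x := by
            funext i
            show (e i : ZMod 3) * ((d (σ.symm i) : ZMod 3) * x (σ (σ.symm i))) = _
            rw [Equiv.apply_symm_apply, ← mul_assoc, ← Units.val_mul]
            rfl
          rwa [ee] at h
        rcases hd1 with r | r <;> exact (r i).trans (r j).symm
      refine ⟨(s, c (tBase 0) * (c0 s (tBase 0))⁻¹), Subtype.ext (Prod.ext rfl (funext fun i => ?_))⟩
      show c (tBase 0) * (c0 s (tBase 0))⁻¹ * c0 s i = c i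
      rw [eq_mul_inv_of_mul_eq (key c hc i (tBase 0)), eq_mul_inv_of_mul_eq (key (c0 s) (hc0 s) i (tBase 0))]
      simp [mul_assoc, mul_comm, mul_left_comm]
  rw [← Nat.card_eq_of_bijective Φ hΦ, Nat.card_prod, card_tPerms, Nat.card_units, Nat.card_zmod]

end Cfsg.Agent.SmallCodes
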