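import Mathlib
import Cfsg.Prelude.Def_SporadicCombinatorics

/-!
# The ternary Golay code: a systematic basis
-/

namespace Cfsg.Agent.SmallCodes

open Finset

abbrev TW := Cfsg.ArrayPt → ZMod 3

/-- The systematic encoder. -/
def tEnc (a : Fin 6 → ZMod 3) : TW := fun p => (![![a 0, a 1, a 2],
  ![a 3, a 4, a 0 + a 1 + a 2 + 2 * a 3 + 2 * a 4],
  ![a 5, 2 * a 1 + a 2 + 2 * a 3 + a 4 + a 5, a 0 + 2 * a 1 + a 3 + 2 * a 4 + a 5],
  ![a 0 + 2 * a 1 + 2 * a 2 + 2 * a 3 + 2 * a 5, a 0 + a 2 + a 3 + a 4 + 2 * a 5, 2 * a 0 + 2 * a 1 + a 2 + 2 * a 4 + 2 * a 5]] :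
  Fin 4 → Fin 3 → ZMod 3) p.1 p.2

/-- The information positions. -/
def tInfo (x : TW) : Fin 6 → ZMod 3 := ![x (0, 0), x (0, 1), x (0, 2), x (1, 0), x (1, 1), x (2, 0)]

/-- The thirteen equations. -/
def TChk (x : TW) : Prop :=
  (∀ i : Fin 4, ∑ r : ZMod 3, x (i, r) = ∑ r : ZMod 3, x (0, r)) ∧
  ∀ a b : ZMod 3, (∑ i : Fin 4, x (i, a * ![0, 1, 1, 1] i + b * ![1, 0, 1, 2] i)) + ∑ r : ZMod 3, x (0, r) = 0

instance : DecidablePred TChk := fun _ => by unfold TChk; infer_instance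

theorem mem_ternary_iff {x : TW} : x ∈ Cfsg.ternaryGolayCode ↔ TChk x := by
  have key : ∀ t : Fin 4 → ZMod 3, t ∈ Cfsg.tetracode ↔
      ∃ a b : ZMod 3, t = fun i => a * ![0, 1, 1, 1] i + b * ![1, 0, 1, 2] i := by
    intro t
    rw [Cfsg.tetracode, Submodule.mem_span_pair]
    constructor <;> rintro ⟨a, b, h⟩ <;> refine ⟨a, b, ?_⟩
    · subst h; rfl
    · subst h; rfl
  show Cfsg.IsTernaryGolayWord x ↔ _
  constructor
  · rintro ⟨s, hs, ht⟩
    refine ⟨fun i => (hs i).trans (hs 0).symm, fun a b => ?_⟩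
    rw [ht _ ((key _).2 ⟨a, b, rfl⟩), hs 0, add_neg_cancel]
  · rintro ⟨h1, h2⟩
    refine ⟨-∑ r : ZMod 3, x (0, r), fun i => by rw [h1 i, neg_neg], fun t ht => ?_⟩
    obtain ⟨a, b, rfl⟩ := (key t).1 ht
    exact eq_neg_of_add_eq_zero_left (h2 a b)

theorem tEnc_mem (a : Fin 6 → ZMod 3) : tEnc a ∈ Cfsg.ternaryGolayCode :=
  mem_ternary_iff.2 ((by decide +kernel : ∀ a, TChk (tEnc a)) a)

theorem tInfo_tEnc : ∀ a, tInfo (tEnc a) = a := by decide +kernel

theorem tEnc_injective : Function.Injective tEnc := fun a b h => by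
  rw [← tInfo_tEnc a, h, tInfo_tEnc]

theorem eq_tEnc {x : TW} (hx : x ∈ Cfsg.ternaryGolayCode) : x = tEnc (tInfo x) := by
  let mk : (Fin 6 → ZMod 3) → TW := fun z p =>
    (![![0, 0, 0], ![0, 0, z 0], ![0, z 1, z 2], ![z 3, z 4, z 5]] : Fin 4 → Fin 3 → ZMod 3) p.1 p.2
  have hz : ∀ z, TChk (mk z) → z = 0 := by decide +kernel
  set y := x - tEnc (tInfo x) with hy
  have hy0 : tInfo y = 0 := by
    funext k
    have := congrFun (tInfo_tEnc (tInfo x)) k
    fin_cases k <;> simp_all [tInfo]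
  have hmk : y = mk ![y (1, 2), y (2, 1), y (2, 2), y (3, 0), y (3, 1), y (3, 2)] := by
    funext ⟨i, r⟩
    have e : ∀ k, tInfo y k = 0 := fun k => congrFun hy0 k
    have e0 := e 0; have e1 := e 1; have e2 := e 2; have e3 := e 3; have e4 := e 4; have e5 := e 5
    simp [tInfo] at e0 e1 e2 e3 e4 e5
    fin_cases i <;> fin_cases r <;> simp [mk] <;> first | assumption | rfl
  have hyc : TChk y := mem_ternary_iff.1 (sub_mem hx (tEnc_mem _))
  rw [hmk] at hyc
  have h0 := hz _ hyc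
  have hy' : y = 0 := by
    rw [hmk, h0]
    funext ⟨i, r⟩
    fin_cases i <;> fin_cases r <;> rfl
  exact sub_eq_zero.1 hy'

theorem mem_ternary_iff_enc {x : TW} : x ∈ Cfsg.ternaryGolayCode ↔ ∃ a, tEnc a = x :=
  ⟨fun h => ⟨_, (eq_tEnc h).symm⟩, fun ⟨_, h⟩ => h ▸ tEnc_mem _⟩

/-- The weight. -/
abbrev tWt (a : Fin 6 → ZMod 3) : ℕ := (Cfsg.ternarySupport (tEnc a)).card

theorem tWt_cases : ∀ a, a ≠ 0 → tWt a = 6 ∨ tWt a = 9 ∨ tWt a = 12 := by decide +kernel

theorem tEnc_zero : tEnc 0 = 0 := by decide +kernel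

theorem ternary_wt {x : TW} (hx : x ∈ Cfsg.ternaryGolayCode) (h0 : x ≠ 0) :
    (Cfsg.ternarySupport x).card = 6 ∨ (Cfsg.ternarySupport x).card = 9 ∨ (Cfsg.ternarySupport x).card = 12 := by
  rw [eq_tEnc hx]
  exact tWt_cases _ fun h => h0 (by rw [eq_tEnc hx, h, tEnc_zero])

theorem ncard_wt (w : ℕ) :
    {x : TW | x ∈ Cfsg.ternaryGolayCode ∧ (Cfsg.ternarySupport x).card = w}.ncard =
      (univ.filter fun a => tWt a = w).card := by
  rw [← card_image_of_injective _ tEnc_injective, ← Set.ncard_coe_finset]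
  congr 1
  ext x
  simp only [Set.mem_ofPred_eq, coe_image, Set.mem_image, mem_coe, mem_filter, mem_univ, true_and]
  constructor
  · rintro ⟨hx, hw⟩
    exact ⟨tInfo x, by rw [tWt, ← eq_tEnc hx, hw], (eq_tEnc hx).symm⟩
  · rintro ⟨a, ha, rfl⟩
    exact ⟨tEnc_mem a, ha⟩

theorem ternary_dot {x y : TW} (hx : x ∈ Cfsg.ternaryGolayCode) (hy : y ∈ Cfsg.ternaryGolayCode) :
    ∑ p, x p * y p = 0 := by
  have hsq : ∀ x ∈ Cfsg.ternaryGolayCode, ∑ p, x p * x p = 0 := by
    intro x hx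
    obtain ⟨a, rfl⟩ := mem_ternary_iff_enc.1 hx
    exact (by decide +kernel : ∀ a, ∑ p, tEnc a p * tEnc a p = 0) a
  have h := hsq _ (add_mem hx hy)
  simp only [Pi.add_apply, add_mul, mul_add, sum_add_distrib, hsq x hx, hsq y hy, zero_add, add_zero] at h
  rw [sum_congr rfl fun p _ => mul_comm (y p) (x p)] at h
  generalize ∑ p, x p * y p = s at h ⊢
  exact (by decide : ∀ s : ZMod 3, s + s = 0 → s = 0) s h

/-- The hexads. -/
def hexads : Set (Finset Cfsg.ArrayPt) :=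
  {h | ∃ x ∈ Cfsg.ternaryGolayCode, Cfsg.ternarySupport x = h ∧ h.card = 6}

theorem hexads_eq : hexads = ↑((univ.filter fun a => tWt a = 6).image fun a => Cfsg.ternarySupport (tEnc a)) := by
  ext h
  simp only [hexads, Set.mem_ofPred_eq, coe_image, Set.mem_image, mem_coe, mem_filter, mem_univ, true_and]
  constructor
  · rintro ⟨x, hx, rfl, hw⟩
    exact ⟨tInfo x, by rw [tWt, ← eq_tEnc hx, hw], by rw [← eq_tEnc hx]⟩
  · rintro ⟨a, ha, rfl⟩
    exact ⟨_, tEnc_mem a, rfl, ha⟩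

theorem ncard_hexads : hexads.ncard = 132 := by
  rw [hexads_eq, Set.ncard_coe_finset]
  decide +kernel

theorem hexads_inter {b c : Finset Cfsg.ArrayPt} (hb : b ∈ hexads) (hc : c ∈ hexads)
    (h5 : 5 ≤ (b ∩ c).card) : b = c := by
  obtain ⟨x, hx, rfl, hb6⟩ := hb
  obtain ⟨y, hy, rfl, hc6⟩ := hc
  set I := Cfsg.ternarySupport x ∩ Cfsg.ternarySupport y with hI
  have hz : ∀ u v : ZMod 3, u ≠ 0 → v ≠ 0 → u + v = 0 ∨ u - v = 0 := by decide
  have hsplit : I ⊆ (I.filter fun p => x p + y p = 0) ∪ (I.filter fun p => x p - y p = 0) := fun p hp => by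
    have h1 : x p ≠ 0 ∧ y p ≠ 0 := by simpa [hI, Cfsg.ternarySupport] using hp
    rcases hz _ _ h1.1 h1.2 with r | r <;> simp [hp, r]
  have hcard := (card_le_card hsplit).trans (card_union_le _ _)
  have hI' : 5 ≤ I.card := h5
  have hIc : I.card = (Cfsg.ternarySupport x ∩ Cfsg.ternarySupport y).card := rfl
  have hun : (Cfsg.ternarySupport x ∪ Cfsg.ternarySupport y).card ≤ 7 := by
    have := card_union_add_card_inter (Cfsg.ternarySupport x) (Cfsg.ternarySupport y)
    omega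
  have hle : ∀ z : TW, z ∈ Cfsg.ternaryGolayCode → ∀ J : Finset Cfsg.ArrayPt, J ⊆ I → 3 ≤ J.card →
      (∀ p ∈ J, z p = 0) → (∀ p, z p ≠ 0 → x p ≠ 0 ∨ y p ≠ 0) → z = 0 := by
    intro z hzc J hJ hJ3 hJz hzs
    by_contra h0
    have hsub : Cfsg.ternarySupport z ⊆ (Cfsg.ternarySupport x ∪ Cfsg.ternarySupport y) \ J := fun p hp => by
      have hp' : z p ≠ 0 := by simpa [Cfsg.ternarySupport] using hp
      exact mem_sdiff.2 ⟨by simpa [Cfsg.ternarySupport] using hzs p hp', fun hj => hp' (hJz p hj)⟩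
    have h4 := card_le_card hsub
    rw [card_sdiff_of_subset (hJ.trans inter_subset_union)] at h4
    have := ternary_wt hzc h0
    omega
  by_cases h3 : 3 ≤ (I.filter fun p => x p + y p = 0).card
  · have := hle (x + y) (add_mem hx hy) _ (filter_subset _ _) h3 (fun p hp => (mem_filter.1 hp).2)
      (fun p hp => by
        by_contra hne
        push Not at hne
        exact hp (by simp [hne.1, hne.2]))
    rw [eq_neg_of_add_eq_zero_left this]
    ext p; simp [Cfsg.ternarySupport]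
  · have := hle (x - y) (sub_mem hx hy) (I.filter fun p => x p - y p = 0) (filter_subset _ _) (by omega) (fun p hp => (mem_filter.1 hp).2)
      (fun p hp => by
        by_contra hne
        push Not at hne
        exact hp (by simp [hne.1, hne.2]))
    rw [sub_eq_zero.1 this]

theorem hexads_steiner : Cfsg.IsSteinerSystem 5 6 hexads := by
  classical
  refine ⟨fun b hb => by obtain ⟨x, -, rfl, h⟩ := hb; exact h, fun s hs => ?_⟩
  have hfin : hexads.Finite := Set.toFinite _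
  set H := hfin.toFinset with hH
  have hHc : H.card = 132 := by rw [hH, ← Set.ncard_eq_toFinset_card _ hfin, ncard_hexads]
  have h6 : ∀ b ∈ H, b.card = 6 := fun b hb => by
    obtain ⟨x, -, rfl, h⟩ := hfin.mem_toFinset.1 hb; exact h
  have hdis : (H : Set (Finset Cfsg.ArrayPt)).PairwiseDisjoint (fun b => b.powersetCard 5) := by
    intro b hb c hc hne
    refine disjoint_left.2 fun t ht ht' => hne ?_
    simp only [mem_powersetCard] at ht ht'
    exact hexads_inter (hfin.mem_toFinset.1 hb) (hfin.mem_toFinset.1 hc)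
      (ht.2.ge.trans (card_le_card (subset_inter ht.1 ht'.1)))
  have hall : H.biUnion (fun b => b.powersetCard 5) = powersetCard 5 univ := by
    refine eq_of_subset_of_card_le (fun t ht => ?_) ?_
    · obtain ⟨b, -, hb⟩ := mem_biUnion.1 ht
      exact mem_powersetCard.2 ⟨subset_univ _, (mem_powersetCard.1 hb).2⟩
    · rw [card_biUnion hdis, sum_congr rfl fun b hb => (card_powersetCard 5 b).trans (by rw [h6 b hb]),
        sum_const, hHc, card_powersetCard]
      decide +kernel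
  obtain ⟨b, hb, hsb⟩ := mem_biUnion.1 (hall.ge (mem_powersetCard.2 ⟨subset_univ s, hs⟩))
  have hbs : s ⊆ b := (mem_powersetCard.1 hsb).1
  refine ⟨b, ⟨hfin.mem_toFinset.1 hb, hbs⟩, ?_⟩
  rintro c ⟨hc, hsc⟩
  exact hexads_inter hc (hfin.mem_toFinset.1 hb) (hs.ge.trans (card_le_card (subset_inter hsc hbs)))

theorem ternary_diag {c : Cfsg.ArrayPt → (ZMod 3)ˣ}
    (h : ∀ x ∈ Cfsg.ternaryGolayCode, Cfsg.monomialMap 1 c x ∈ Cfsg.ternaryGolayCode) :
    (∀ p, c p = 1) ∨ (∀ p, c p = -1) := by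
  have hu : ∀ u : (ZMod 3)ˣ, u = 1 ∨ u = -1 := by decide
  suffices ∀ p q, c p = c q by
    rcases hu (c (0, 0)) with r | r
    · exact Or.inl fun p => (this p _).trans r
    · exact Or.inr fun p => (this p _).trans r
  intro p q
  obtain ⟨s, hsub, hs⟩ := exists_superset_card_eq (s := ({p, q} : Finset Cfsg.ArrayPt)) (n := 5)
    (card_le_two.trans (by norm_num)) (by simp)
  obtain ⟨b, ⟨hb, hsb⟩, -⟩ := hexads_steiner.2 s hs
  obtain ⟨x, hx, rfl, h6⟩ := hb
  have hp : x p ≠ 0 := by simpa [Cfsg.ternarySupport] using hsb (hsub (mem_insert_self p {q}))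
  have hq : x q ≠ 0 := by simpa [Cfsg.ternarySupport] using hsb (hsub (by simp : q ∈ ({p, q} : Finset Cfsg.ArrayPt)))
  have key : ∀ e : (ZMod 3)ˣ, ∀ p q, x p ≠ 0 → x q ≠ 0 → c p = e → c q = e := by
    intro e p q hp hq he
    set z := Cfsg.monomialMap 1 c x - (e : ZMod 3) • x with hzdef
    have hz : z ∈ Cfsg.ternaryGolayCode := sub_mem (h x hx) (Submodule.smul_mem _ _ hx)
    have hzp : ∀ r, z r = ((c r : ZMod 3) - e) * x r := fun r => by
      rw [hzdef]
      show (c r : ZMod 3) * x r - (e : ZMod 3) * x r = _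
      ring
    have h0 : z = 0 := by
      by_contra h0
      have hlt : (Cfsg.ternarySupport z).card < 6 := h6 ▸ card_lt_card ⟨fun r hr => by
          simp only [Cfsg.ternarySupport, mem_filter, mem_univ, true_and] at hr ⊢
          exact fun e' => hr (by rw [hzp, e', mul_zero]), fun hsup => by
          have := hsup (mem_filter.2 ⟨mem_univ p, hp⟩)
          simp [Cfsg.ternarySupport, hzp, he] at this⟩
      have := ternary_wt hz h0
      omega
    have hq0 := congrFun h0 q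
    rw [hzp, Pi.zero_apply, mul_eq_zero, sub_eq_zero, or_iff_left hq] at hq0
    exact Units.ext hq0
  exact (key (c p) p q hp hq rfl).symm

end Cfsg.Agent.SmallCodes
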