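import Mathlib
import Cfsg.Prelude.Def_Sporadic_a

/-!
# Intersection numbers of S(5, 6, 12)
-/

namespace Cfsg.Agent.SmallCodes

open Finset

variable {α : Type*} [Fintype α] [DecidableEq α] {B : Finset (Finset α)}

theorem s5612_count (h6 : ∀ b ∈ B, b.card = 6) (hu : ∀ s : Finset α, s.card = 5 → ∃! b, b ∈ B ∧ s ⊆ b)
    (hα : Fintype.card α = 12) (s : Finset α) {i : ℕ} (hs : s.card = i) (hi : i ≤ 5) :
    (B.filter fun c => s ⊆ c).card * (6 - i).choose (5 - i) = (12 - i).choose (5 - i) := by
  have hun : ∀ u ∈ powersetCard (5 - i) sᶜ, (s ∪ u).card = 5 := fun u hu' => by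
    rw [mem_powersetCard] at hu'
    rw [card_union_of_disjoint (disjoint_left.2 fun x hx hx' => mem_compl.1 (hu'.1 hx') hx), hs, hu'.2]
    omega
  have hcover : (B.filter fun c => s ⊆ c).biUnion (fun c => powersetCard (5 - i) (c \ s)) =
      powersetCard (5 - i) sᶜ := by
    ext u
    simp only [mem_biUnion, mem_filter, mem_powersetCard]
    constructor
    · rintro ⟨c, -, hsub, hc⟩
      exact ⟨fun x hx => mem_compl.2 (mem_sdiff.1 (hsub hx)).2, hc⟩
    · intro h
      obtain ⟨c, ⟨hc, hsub⟩, -⟩ := hu _ (hun u (mem_powersetCard.2 h))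
      exact ⟨c, ⟨hc, subset_union_left.trans hsub⟩,
        fun x hx => mem_sdiff.2 ⟨hsub (mem_union_right _ hx), mem_compl.1 (h.1 hx)⟩, h.2⟩
  have hdis : ((B.filter fun c => s ⊆ c : Finset (Finset α)) : Set (Finset α)).PairwiseDisjoint
      fun c => powersetCard (5 - i) (c \ s) := by
    intro c hc d hd hne
    refine disjoint_left.2 fun u hu1 hu2 => hne ?_
    simp only [coe_filter, Set.mem_ofPred_eq] at hc hd
    simp only [mem_powersetCard] at hu1 hu2
    have h5 := hun u (mem_powersetCard.2 ⟨fun x hx => mem_compl.2 (mem_sdiff.1 (hu1.1 hx)).2, hu1.2⟩)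
    exact (hu _ h5).unique ⟨hc.1, union_subset hc.2 (hu1.1.trans sdiff_subset)⟩
      ⟨hd.1, union_subset hd.2 (hu2.1.trans sdiff_subset)⟩
  have := congrArg Finset.card hcover
  rw [card_biUnion hdis, card_powersetCard, card_compl, hα, hs] at this
  rw [← this, ← smul_eq_mul, ← sum_const]
  refine sum_congr rfl fun c hc => ?_
  rw [mem_filter] at hc
  rw [card_powersetCard, card_sdiff_of_subset hc.2, h6 c hc.1, hs]

/-- The expected intersection numbers. -/
def s5612N : ℕ → ℕ
  | 2 => 3
  | 3 => 2
  | 4 => 3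
  | 6 => 1
  | _ => 0

theorem s5612_inter (h6 : ∀ b ∈ B, b.card = 6) (hu : ∀ s : Finset α, s.card = 5 → ∃! b, b ∈ B ∧ s ⊆ b)
    (hα : Fintype.card α = 12) {b : Finset α} (hb : b ∈ B) (s : Finset α) (hsb : s ⊆ b) (h1 : 1 ≤ s.card) :
    (B.filter fun c => b ∩ c = s).card = s5612N s.card := by
  suffices ∀ m, ∀ s ⊆ b, 1 ≤ s.card → 6 - s.card = m →
      (B.filter fun c => b ∩ c = s).card = s5612N s.card from this _ s hsb h1 rfl
  intro m
  induction m using Nat.strong_induction_on with
  | _ m ih =>
    intro s hsb h1 hm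
    have hle : s.card ≤ 6 := h6 b hb ▸ card_le_card hsb
    rcases Nat.eq_or_lt_of_le hle with e | e
    · have hsb' : s = b := eq_of_subset_of_card_le hsb (by rw [h6 b hb, e])
      subst hsb'
      rw [e, s5612N, card_eq_one]
      refine ⟨s, ext fun c => ?_⟩
      simp only [mem_filter, mem_singleton]
      exact ⟨fun h => (eq_of_subset_of_card_le (inter_eq_left.1 h.2) (by rw [h6 s hb, h6 c h.1])).symm,
        fun h => by subst h; exact ⟨hb, inter_self _⟩⟩
    have hfib : (B.filter fun c => s ⊆ c).card =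
        ∑ u ∈ (b \ s).powerset, (B.filter fun c => b ∩ c = s ∪ u).card := by
      rw [card_eq_sum_card_fiberwise (f := fun c => (b ∩ c) \ s) (t := (b \ s).powerset)
        fun c _ => mem_coe.2 (mem_powerset.2 (sdiff_subset_sdiff inter_subset_left Subset.rfl))]
      refine sum_congr rfl fun u hu' => congrArg Finset.card ?_
      rw [mem_powerset] at hu'
      rw [filter_filter]
      refine filter_congr fun c _ => ⟨fun h => ?_, fun h => ?_⟩
      · rw [← h.2, union_sdiff_of_subset (subset_inter hsb h.1)]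
      · refine ⟨(h ▸ subset_union_left : s ⊆ b ∩ c).trans inter_subset_right, ?_⟩
        rw [h, union_sdiff_left, sdiff_eq_self_of_disjoint]
        exact disjoint_left.2 fun x hx hx' => (mem_sdiff.1 (hu' hx)).2 hx'
    have hrest : ∀ u ∈ (b \ s).powerset, u ≠ ∅ →
        (B.filter fun c => b ∩ c = s ∪ u).card = s5612N (s.card + u.card) := by
      intro u hu' hne
      rw [mem_powerset] at hu'
      have hd : Disjoint s u := disjoint_left.2 fun x hx hx' => (mem_sdiff.1 (hu' hx')).2 hx
      have hc : (s ∪ u).card = s.card + u.card := card_union_of_disjoint hd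
      have hpos : 0 < u.card := card_pos.2 (nonempty_iff_ne_empty.2 hne)
      rw [← hc]
      exact ih (6 - (s ∪ u).card) (by omega) _ (union_subset hsb (hu'.trans sdiff_subset)) (by omega) rfl
    rw [← add_sum_erase _ _ (empty_mem_powerset (b \ s)), union_empty,
      sum_congr rfl fun u hu' => hrest u (mem_of_mem_erase hu') (ne_of_mem_erase hu')] at hfib
    have htot := sum_powerset_apply_card (fun j => s5612N (s.card + j)) (x := b \ s)
    rw [← add_sum_erase _ _ (empty_mem_powerset (b \ s)), card_empty, add_zero,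
      card_sdiff_of_subset hsb, h6 b hb] at htot
    have hcount := s5612_count h6 hu hα s rfl (by omega)
    generalize (∑ u ∈ (b \ s).powerset.erase ∅, s5612N (s.card + u.card)) = R at hfib htot
    generalize (B.filter fun c => s ⊆ c).card = lam at hfib hcount
    obtain ⟨i, hi⟩ : ∃ i, s.card = i := ⟨_, rfl⟩
    rw [hi] at htot hcount h1 e ⊢
    have hi5 : i ≤ 5 := by omega
    generalize (B.filter fun c => b ∩ c = s).card = N at hfib ⊢
    interval_cases i <;>
      simp [sum_range_succ, s5612N, Nat.choose] at htot hcount ⊢ <;> omega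

end Cfsg.Agent.SmallCodes
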