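import Mathlib
import Cfsg.Prelude.Def_SporadicCombinatorics

/-!
# The hexacode through a concrete model of the field of order four
-/

namespace Cfsg.Agent.SmallCodes

open Finset

/-- Addition of the model `0, 1, ω, ω²`. -/
def qAdd : Fin 4 → Fin 4 → Fin 4 := ![![0, 1, 2, 3], ![1, 0, 3, 2], ![2, 3, 0, 1], ![3, 2, 1, 0]]

/-- Multiplication of the model. -/
def qMul : Fin 4 → Fin 4 → Fin 4 := ![![0, 0, 0, 0], ![0, 1, 2, 3], ![0, 2, 3, 1], ![0, 3, 1, 2]]

/-- The words of the model. -/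
def hexW (a : Fin 3 → Fin 4) : Fin 6 → Fin 4 := fun i =>
  qAdd (qAdd (qMul (a 0) ((![2, 3, 3, 2, 3, 2] : Fin 6 → Fin 4) i)) (qMul (a 1) ((![3, 2, 2, 3, 3, 2] : Fin 6 → Fin 4) i)))
    (qMul (a 2) ((![3, 2, 3, 2, 2, 3] : Fin 6 → Fin 4) i))

theorem hexW_inj : ∀ a b, hexW a = hexW b → a = b := by decide +kernel

/-- The weight. -/
abbrev qWt (x : Fin 6 → Fin 4) : ℕ := (univ.filter fun i => x i ≠ 0).card

theorem hexW_wt : ∀ a, hexW a ≠ 0 → qWt (hexW a) = 4 ∨ qWt (hexW a) = 6 := by decide +kernel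

section

variable {F : Type*} [Field F] (ω : F)

/-- The comparison map. -/
def qVal : Fin 4 → F := ![0, 1, ω, ω ^ 2]

variable {ω} (hω : ω ^ 2 + ω + 1 = 0) (h2 : (2 : F) = 0)
include hω h2

theorem qVal_add : ∀ a b, qVal ω (qAdd a b) = qVal ω a + qVal ω b := by
  intro a b
  fin_cases a <;> fin_cases b <;> simp [qVal, qAdd] <;>
    first
      | linear_combination (0 : F) * hω
      | linear_combination (-1 : F) * h2
      | linear_combination (-ω) * h2
      | linear_combination (-ω ^ 2) * h2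
      | linear_combination (-1 : F) * hω + (ω + 1) * h2
      | linear_combination hω - (ω ^ 2) * h2
      | linear_combination hω - ω * h2
      | linear_combination hω - h2
      | linear_combination (-1 : F) * hω + (ω ^ 2) * h2
      | linear_combination (-1 : F) * hω + ω * h2
      | linear_combination (-1 : F) * hω + h2
      | linear_combination (-1 : F) * hω
      | linear_combination hω - (ω + 1) * h2

theorem qVal_mul : ∀ a b, qVal ω (qMul a b) = qVal ω a * qVal ω b := by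
  intro a b
  fin_cases a <;> fin_cases b <;> simp [qVal, qMul] <;>
    first
      | linear_combination (0 : F) * hω
      | linear_combination (1 - ω) * hω
      | linear_combination (ω - ω ^ 2) * hω
      | linear_combination (ω - 1) * hω
      | linear_combination (ω ^ 2 - ω) * hω

variable [Fintype F] (hF : Fintype.card F = 4)
include hF

theorem qVal_bijective : Function.Bijective (qVal ω) := by
  classical
  refine (Fintype.bijective_iff_injective_and_card _).2 ⟨?_, by rw [hF, Fintype.card_fin]⟩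
  have hne : ∀ d : Fin 4, d ≠ 0 → qVal ω d ≠ 0 := by
    have hω0 : ω ≠ 0 := fun h => by simp [h] at hω
    intro d hd
    fin_cases d
    · exact absurd rfl hd
    · simp [qVal]
    · simpa [qVal] using hω0
    · simpa [qVal] using hω0
  intro a b h
  by_contra hab
  refine hne (qAdd a b) ((by decide : ∀ a b : Fin 4, a ≠ b → qAdd a b ≠ 0) a b hab) ?_
  rw [qVal_add hω h2, h, ← two_mul, h2, zero_mul]

/-- The word of a coefficient vector. -/
theorem mem_hexacode_iff {x : Fin 6 → F} :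
    x ∈ Cfsg.hexacode F ω ↔ ∃ a, qVal ω ∘ hexW a = x := by
  have key : ∀ a, qVal ω ∘ hexW a = qVal ω (a 0) • ![ω, ω ^ 2, ω ^ 2, ω, ω ^ 2, ω] +
      (qVal ω (a 1) • ![ω ^ 2, ω, ω, ω ^ 2, ω ^ 2, ω] + qVal ω (a 2) • ![ω ^ 2, ω, ω ^ 2, ω, ω, ω ^ 2]) := by
    intro a
    funext i
    simp only [hexW, Function.comp_apply, qVal_add hω h2, qVal_mul hω h2, Pi.add_apply, Pi.smul_apply, smul_eq_mul]
    rw [← add_assoc]
    congr 2 <;> congr 1 <;> fin_cases i <;> rfl
  have hb := qVal_bijective hω h2 hF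
  rw [Cfsg.hexacode, Submodule.mem_span_insert]
  constructor
  · rintro ⟨a, z, hz, rfl⟩
    obtain ⟨b, c, rfl⟩ := Submodule.mem_span_pair.1 hz
    obtain ⟨a', rfl⟩ := hb.2 a
    obtain ⟨b', rfl⟩ := hb.2 b
    obtain ⟨c', rfl⟩ := hb.2 c
    exact ⟨![a', b', c'], key _⟩
  · rintro ⟨a, rfl⟩
    exact ⟨_, _, Submodule.mem_span_pair.2 ⟨_, _, rfl⟩, key a⟩

theorem qWt_eq [DecidableEq F] (x : Fin 6 → Fin 4) :
    (univ.filter fun i => (qVal ω ∘ x) i ≠ 0).card = qWt x := by
  congr 1
  refine filter_congr fun i _ => not_congr ?_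
  have h0 : qVal ω (0 : Fin 4) = 0 := rfl
  rw [Function.comp_apply, ← h0, (qVal_bijective hω h2 hF).1.eq_iff]

theorem hexacode_card : Nat.card ↥(Cfsg.hexacode F ω) = 64 := by
  rw [← Nat.card_congr (Equiv.ofBijective
    (fun a => (⟨_, (mem_hexacode_iff hω h2 hF).2 ⟨a, rfl⟩⟩ : ↥(Cfsg.hexacode F ω)))
    ⟨fun a b h => hexW_inj a b (Function.Injective.comp_left (qVal_bijective hω h2 hF).1 (congrArg Subtype.val h)),
     fun x => (mem_hexacode_iff hω h2 hF).1 x.2 |>.imp fun a ha => Subtype.ext ha⟩)]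
  simp

theorem hexacode_ncard [DecidableEq F] (w : ℕ) :
    {x : Fin 6 → F | x ∈ Cfsg.hexacode F ω ∧ (univ.filter fun i => x i ≠ 0).card = w}.ncard =
      (univ.filter fun a => qWt (hexW a) = w).card := by
  have hinj : Function.Injective fun a => qVal ω ∘ hexW a := fun a b h =>
    hexW_inj a b (Function.Injective.comp_left (qVal_bijective hω h2 hF).1 h)
  rw [← Set.ncard_coe_finset, ← Set.ncard_image_of_injective _ hinj]
  congr 1
  ext x
  simp only [Set.mem_ofPred_eq, Set.mem_image, coe_filter, mem_univ, true_and, mem_hexacode_iff hω h2 hF]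
  constructor
  · rintro ⟨⟨a, rfl⟩, hw⟩
    exact ⟨a, by rwa [qWt_eq hω h2 hF] at hw, rfl⟩
  · rintro ⟨a, ha, rfl⟩
    exact ⟨⟨a, rfl⟩, by rw [qWt_eq hω h2 hF, ha]⟩

end

end Cfsg.Agent.SmallCodes
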