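import Cfsg.Agent.SmallCodes.Hexacode

/-!
# Monomial symmetries of the hexacode
-/

namespace Cfsg.Agent.SmallCodes

open Finset

/-- Recover the coefficient vector from the first three entries. -/
def qRec (x : Fin 6 → Fin 4) : Fin 3 → Fin 4 :=
  ![qAdd (qAdd (qMul (x 0) 2) (qMul (x 1) 3)) (qMul (x 2) 0),
    qAdd (qAdd (qMul (x 0) 3) (qMul (x 1) 3)) (qMul (x 2) 1),
    qAdd (qAdd (qMul (x 0) 0) (qMul (x 1) 1)) (qMul (x 2) 1)]

theorem qRec_hexW : ∀ a, qRec (hexW a) = a := by decide +kernel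

/-- The monomial action on the model. -/
def qMono (σ : Equiv.Perm (Fin 6)) (k : Fin 6 → Fin 4) (x : Fin 6 → Fin 4) : Fin 6 → Fin 4 :=
  fun i => qMul (k i) (x (σ.symm i))

/-- The three spanning words. -/
def qGen : Fin 3 → Fin 3 → Fin 4 := ![![1, 0, 0], ![0, 1, 0], ![0, 0, 1]]

/-- Preservation of the model code. -/
abbrev QPres (σ : Equiv.Perm (Fin 6)) (k : Fin 6 → Fin 4) : Prop :=
  ∀ j, hexW (qRec (qMono σ k (hexW (qGen j)))) = qMono σ k (hexW (qGen j))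

/-- Base-four codes of witnesses for the three-cycles, in lexicographic order of the triple. -/
def qWitTable : List Nat :=
  [0, 0, 0, 0, 0, 0, 0, 0, 3669, 2901, 1509, 1461, 0, 2901, 0, 3669, 1725, 3561,
   0, 3669, 2901, 0, 1977, 2541, 0, 1461, 2925, 3801, 0, 1509, 0, 1509, 2937, 3741, 1461, 0,
   0, 0, 2901, 3669, 1461, 1509, 0, 0, 0, 0, 0, 0, 3669, 0, 0, 2901, 3741, 3801,
   2901, 0, 3669, 0, 2937, 2925, 1509, 0, 2541, 3561, 0, 1461, 1461, 0, 1977, 1725, 1509, 0,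
   0, 3669, 0, 2901, 2925, 2937, 2901, 0, 0, 3669, 2541, 1977, 0, 0, 0, 0, 0, 0,
   3669, 2901, 0, 0, 4089, 2733, 1725, 3741, 0, 2733, 0, 4089, 3561, 3801, 0, 4089, 2733, 0,
   0, 2901, 3669, 0, 3801, 3741, 3669, 0, 2901, 0, 3561, 1725, 2901, 3669, 0, 0, 2733, 4089,
   0, 0, 0, 0, 0, 0, 1977, 2937, 4089, 0, 0, 2733, 2541, 2925, 2733, 0, 4089, 0,
   0, 1509, 1725, 1977, 0, 1461, 1461, 0, 3741, 2937, 0, 1509, 2925, 2541, 0, 4089, 0, 2733,
   3801, 3561, 2733, 0, 0, 4089, 0, 0, 0, 0, 0, 0, 1509, 1461, 4089, 2733, 0, 0,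
   0, 1461, 3561, 2541, 1509, 0, 1509, 0, 3801, 2925, 1461, 0, 2937, 1977, 0, 2733, 4089, 0,
   3741, 1725, 4089, 0, 2733, 0, 1461, 1509, 2733, 4089, 0, 0, 0, 0, 0, 0, 0, 0]

/-- The witness for a three-cycle. -/
def qWit (a b c i : Fin 6) : Fin 4 :=
  ⟨(qWitTable.getD (36 * a.val + 6 * b.val + c.val) 0 / 4 ^ i.val) % 4, Nat.mod_lt _ (by norm_num)⟩

set_option maxRecDepth 100000 in
theorem qThree : ∀ a b c : Fin 6, a ≠ b → a ≠ c → b ≠ c →
    (∀ i, qWit a b c i ≠ 0) ∧ QPres (Equiv.swap a b * Equiv.swap a c) (qWit a b c) := by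
  decide +kernel

set_option maxRecDepth 100000 in
theorem qDiagAux : ∀ a : Fin 4, a ≠ 0 → ∀ b : Fin 4, b ≠ 0 → ∀ c : Fin 4, c ≠ 0 → ∀ d : Fin 4, d ≠ 0 →
    ∀ e : Fin 4, e ≠ 0 → ∀ f : Fin 4, f ≠ 0 →
      (QPres 1 ![a, b, c, d, e, f] → a = b ∧ a = c ∧ a = d ∧ a = e ∧ a = f) ∧
        ¬ QPres (Equiv.swap 0 1) ![a, b, c, d, e, f] := by
  decide +kernel

theorem eq_six {α : Type*} (k : Fin 6 → α) : k = ![k 0, k 1, k 2, k 3, k 4, k 5] := by
  funext i
  fin_cases i <;> rfl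

theorem qDiag (k : Fin 6 → Fin 4) (h0 : ∀ i, k i ≠ 0) (h : QPres 1 k) : ∀ i j, k i = k j := by
  rw [eq_six k] at h
  obtain ⟨h1, h2, h3, h4, h5⟩ :=
    (qDiagAux _ (h0 0) _ (h0 1) _ (h0 2) _ (h0 3) _ (h0 4) _ (h0 5)).1 h
  have key : ∀ i, k i = k 0 := by
    intro i
    fin_cases i
    exacts [rfl, h1.symm, h2.symm, h3.symm, h4.symm, h5.symm]
  exact fun i j => (key i).trans (key j).symm

theorem qSwap (k : Fin 6 → Fin 4) (h0 : ∀ i, k i ≠ 0) : ¬ QPres (Equiv.swap 0 1) k := by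
  rw [eq_six k]
  exact (qDiagAux _ (h0 0) _ (h0 1) _ (h0 2) _ (h0 3) _ (h0 4) _ (h0 5)).2

section

variable {F : Type*} [Field F] (ω : F)

/-- A monomial symmetry of the hexacode. -/
def HPres (σ : Equiv.Perm (Fin 6)) (c : Fin 6 → Fˣ) : Prop :=
  ∀ x ∈ Cfsg.hexacode F ω, Cfsg.monomialMap σ c x ∈ Cfsg.hexacode F ω

theorem monomialMap_comp {α : Type*} (σ τ : Equiv.Perm α) (c d : α → Fˣ) (x : α → F) :
    Cfsg.monomialMap σ c (Cfsg.monomialMap τ d x) =
      Cfsg.monomialMap (σ * τ) (fun i => c i * d (σ.symm i)) x := by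
  funext i
  simp only [Cfsg.monomialMap, Units.val_mul, mul_assoc]
  rfl

theorem monomialMap_smul {α : Type*} (σ : Equiv.Perm α) (u : Fˣ) (c : α → Fˣ) (x : α → F) :
    Cfsg.monomialMap σ (fun i => u * c i) x = (u : F) • Cfsg.monomialMap σ c x := by
  funext i
  simp only [Cfsg.monomialMap, Units.val_mul, Pi.smul_apply, smul_eq_mul, mul_assoc]

/-- The permutation parts. -/
def hexPerms [Fintype F] : Subgroup (Equiv.Perm (Fin 6)) where
  carrier := {σ | ∃ c : Fin 6 → Fˣ, HPres ω σ c}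
  one_mem' := ⟨fun _ => 1, fun x hx => by
    have : Cfsg.monomialMap (1 : Equiv.Perm (Fin 6)) (fun _ => (1 : Fˣ)) x = x := by
      funext i
      simp only [Cfsg.monomialMap, Units.val_one, one_mul]
      rfl
    rw [this]
    exact hx⟩
  mul_mem' := by
    rintro σ τ ⟨c, hc⟩ ⟨d, hd⟩
    exact ⟨_, fun x hx => monomialMap_comp σ τ c d x ▸ hc _ (hd x hx)⟩
  inv_mem' := by
    rintro σ ⟨c, hc⟩
    refine ⟨fun i => (c (σ i))⁻¹, fun y hy => ?_⟩
    have hinj : Set.InjOn (Cfsg.monomialMap σ c) (Cfsg.hexacode F ω : Set (Fin 6 → F)) := by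
      intro x _ x' _ h
      funext i
      simpa [Cfsg.monomialMap] using congrFun h (σ i)
    let f : ↥(Cfsg.hexacode F ω) → ↥(Cfsg.hexacode F ω) := fun x => ⟨_, hc x.1 x.2⟩
    obtain ⟨⟨x, hx⟩, hxy⟩ := (Finite.injective_iff_surjective (f := f)).1
      (fun x x' h => Subtype.ext (hinj x.2 x'.2 (congrArg Subtype.val h))) ⟨y, hy⟩
    have hxy' : Cfsg.monomialMap σ c x = y := congrArg Subtype.val hxy
    have : Cfsg.monomialMap σ⁻¹ (fun i => (c (σ i))⁻¹) y = x := by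
      subst hxy'
      funext i
      simp [Cfsg.monomialMap, Equiv.Perm.inv_def]
    rw [this]
    exact hx

variable {ω} (hω : ω ^ 2 + ω + 1 = 0) (h2 : (2 : F) = 0) [Fintype F] (hF : Fintype.card F = 4)
include hω h2 hF

theorem hPres_iff (σ : Equiv.Perm (Fin 6)) (c : Fin 6 → Fˣ) (k : Fin 6 → Fin 4)
    (hk : ∀ i, qVal ω (k i) = c i) : HPres ω σ c ↔ QPres σ k := by
  have hmono : ∀ z, Cfsg.monomialMap σ c (qVal ω ∘ z) = qVal ω ∘ qMono σ k z := by
    intro z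
    funext i
    simp only [Cfsg.monomialMap, Function.comp_apply, qMono, qVal_mul hω h2, hk]
  constructor
  · intro h j
    obtain ⟨a, ha⟩ := (mem_hexacode_iff hω h2 hF).1
      (h _ ((mem_hexacode_iff hω h2 hF).2 ⟨qGen j, rfl⟩))
    rw [hmono] at ha
    have := Function.Injective.comp_left (qVal_bijective hω h2 hF).1 ha
    rw [← this, qRec_hexW]
  · intro h x hx
    have hgen : ∀ j, Cfsg.monomialMap σ c (qVal ω ∘ hexW (qGen j)) ∈ Cfsg.hexacode F ω := fun j => by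
      rw [hmono, ← h j]
      exact (mem_hexacode_iff hω h2 hF).2 ⟨_, rfl⟩
    let m : (Fin 6 → F) →ₗ[F] (Fin 6 → F) :=
      { toFun := Cfsg.monomialMap σ c
        map_add' := fun x y => by funext i; simp [Cfsg.monomialMap, mul_add]
        map_smul' := fun r x => by
          funext i
          simp only [Cfsg.monomialMap, Pi.smul_apply, smul_eq_mul, RingHom.id_apply]
          ring }
    have hle : Cfsg.hexacode F ω ≤ (Cfsg.hexacode F ω).comap m := by
      conv_lhs => rw [Cfsg.hexacode]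
      rw [Submodule.span_le]
      have he : ∀ j, (qVal ω ∘ hexW (qGen j) : Fin 6 → F) = ![![ω, ω ^ 2, ω ^ 2, ω, ω ^ 2, ω],
          ![ω ^ 2, ω, ω, ω ^ 2, ω ^ 2, ω], ![ω ^ 2, ω, ω ^ 2, ω, ω, ω ^ 2]] j := by
        intro j
        funext i
        fin_cases j <;> fin_cases i <;> rfl
      intro v hv
      simp only [Set.mem_insert_iff, Set.mem_singleton_iff] at hv
      rcases hv with rfl | rfl | rfl
      · have := hgen 0; rw [he 0] at this; exact this
      · have := hgen 1; rw [he 1] at this; exact this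
      · have := hgen 2; rw [he 2] at this; exact this
    exact hle hx

theorem exists_model (c : Fin 6 → Fˣ) : ∃ k : Fin 6 → Fin 4, (∀ i, qVal ω (k i) = c i) ∧ ∀ i, k i ≠ 0 := by
  choose k hk using fun i => (qVal_bijective hω h2 hF).2 (c i : F)
  exact ⟨k, hk, fun i h => (c i).ne_zero (by rw [← hk i, h]; rfl)⟩

theorem hPres_diag {c : Fin 6 → Fˣ} (h : HPres ω 1 c) : ∀ i j, c i = c j := by
  obtain ⟨k, hk, hk0⟩ := exists_model hω h2 hF c
  intro i j
  exact Units.ext (by rw [← hk i, ← hk j, qDiag k hk0 ((hPres_iff hω h2 hF 1 c k hk).1 h) i j])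

theorem hexPerms_eq : hexPerms ω = alternatingGroup (Fin 6) := by
  classical
  have hle : alternatingGroup (Fin 6) ≤ hexPerms ω := by
    rw [← Equiv.Perm.closure_three_cycles_eq_alternating, Subgroup.closure_le]
    intro σ hσ
    obtain ⟨a, b, c, hab, hac, hbc, rfl⟩ : ∃ a b c, a ≠ b ∧ a ≠ c ∧ b ≠ c ∧ σ = Equiv.swap a b * Equiv.swap a c :=
      (by decide +kernel : ∀ σ : Equiv.Perm (Fin 6), σ.support.card = 3 →
        ∃ a b c, a ≠ b ∧ a ≠ c ∧ b ≠ c ∧ σ = Equiv.swap a b * Equiv.swap a c) σ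
        (Equiv.Perm.IsThreeCycle.card_support hσ)
    obtain ⟨hk0, hk⟩ := qThree a b c hab hac hbc
    have hne : ∀ i, qVal ω (qWit a b c i) ≠ 0 := fun i h =>
      hk0 i ((qVal_bijective hω h2 hF).1 h)
    exact ⟨fun i => Units.mk0 _ (hne i), (hPres_iff hω h2 hF _ _ _ fun i => rfl).2 hk⟩
  refine le_antisymm (fun σ hσ => ?_) hle
  by_contra hodd
  have hswap : (Equiv.swap (0 : Fin 6) 1) ∈ hexPerms ω := by
    have hev : Equiv.swap (0 : Fin 6) 1 * σ⁻¹ ∈ alternatingGroup (Fin 6) := by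
      rw [Equiv.Perm.mem_alternatingGroup] at hodd ⊢
      rw [map_mul, Equiv.Perm.sign_swap (by decide : (0 : Fin 6) ≠ 1), map_inv,
        (Int.units_eq_one_or _).resolve_left hodd]
      decide
    simpa using mul_mem (hle hev) hσ
  obtain ⟨c, hc⟩ := hswap
  obtain ⟨k, hk, hk0⟩ := exists_model hω h2 hF c
  exact qSwap k hk0 ((hPres_iff hω h2 hF _ c k hk).1 hc)

theorem card_hexAut :
    Nat.card {f : Equiv.Perm (Fin 6) × (Fin 6 → Fˣ) // HPres ω f.1 f.2} = 1080 := by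
  classical
  choose c0 hc0 using fun σ : hexPerms ω => σ.2
  let Φ : hexPerms ω × Fˣ → {f : Equiv.Perm (Fin 6) × (Fin 6 → Fˣ) // HPres ω f.1 f.2} := fun q =>
    ⟨(q.1, fun i => q.2 * c0 q.1 i), fun x hx => by
      rw [monomialMap_smul]
      exact Submodule.smul_mem _ _ (hc0 q.1 x hx)⟩
  have hΦ : Function.Bijective Φ := by
    constructor
    · rintro ⟨σ, u⟩ ⟨τ, v⟩ h
      obtain ⟨h1, h2'⟩ := Prod.ext_iff.1 (congrArg Subtype.val h)
      obtain rfl : σ = τ := Subtype.ext h1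
      exact Prod.ext rfl (mul_right_cancel (congrFun h2' 0))
    · rintro ⟨⟨σ, c⟩, hc⟩
      set s : hexPerms ω := ⟨σ, c, hc⟩
      obtain ⟨d, hd⟩ := (hexPerms ω).inv_mem s.2
      have hdiag1 := hPres_diag hω h2 hF (c := fun i => c i * d (σ.symm i)) fun x hx => by
        have := hc _ (hd x hx)
        rwa [monomialMap_comp, mul_inv_cancel] at this
      have hdiag0 := hPres_diag hω h2 hF (c := fun i => c0 s i * d (σ.symm i)) fun x hx => by
        have := hc0 s _ (hd x hx)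
        rwa [monomialMap_comp, show (s : Equiv.Perm (Fin 6)) = σ from rfl, mul_inv_cancel] at this
      refine ⟨(s, c 0 * (c0 s 0)⁻¹), Subtype.ext (Prod.ext rfl (funext fun i => ?_))⟩
      show c 0 * (c0 s 0)⁻¹ * c0 s i = c i
      have e1 : c i * d (σ.symm i) = c 0 * d (σ.symm 0) := hdiag1 i 0
      have e0 : c0 s i * d (σ.symm i) = c0 s 0 * d (σ.symm 0) := hdiag0 i 0
      rw [eq_mul_inv_of_mul_eq e1, eq_mul_inv_of_mul_eq e0]
      simp [mul_assoc, mul_comm, mul_left_comm]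
  rw [← Nat.card_eq_of_bijective Φ hΦ, Nat.card_prod, hexPerms_eq hω h2 hF, nat_card_alternatingGroup]
  rw [Nat.card_units, Nat.card_eq_fintype_card, Nat.card_eq_fintype_card, hF, Fintype.card_fin]
  decide

end

end Cfsg.Agent.SmallCodes
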